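import Groth.Agent.H25.Algz.System
import Groth.Agent.Lib.Excellent.CompletionTopology
import Mathlib.RingTheory.AdicCompletion.Algebra
import Mathlib.RingTheory.AdicCompletion.Noetherian
import Mathlib.RingTheory.FiniteType
import Mathlib.RingTheory.Localization.Away.Basic
import Mathlib.RingTheory.RingHom.FiniteType
import Mathlib.LinearAlgebra.Matrix.Charpoly.LinearMap
import Mathlib.RingTheory.Jacobson.Ideal
import Mathlib.RingTheory.Localization.Ideal

/-!
# Algebraisation of quotients of a completion with nearly idempotent kernel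
-/

set_option linter.style.haveILetI false

universe u

namespace Groth.Agent.H25.Algz

theorem factor_evalₐ {R : Type u} [CommRing R] {I : Ideal R} {m n : ℕ} (h : m ≤ n)
    (x : AdicCompletion I R) :
    Ideal.Quotient.factor (Ideal.pow_le_pow_right h) (AdicCompletion.evalₐ I n x) =
      AdicCompletion.evalₐ I m x :=
  Groth.Agent.Lib.Excellent.CompletionTopology.factor_evalₐ h x

variable {B P : Type u} [CommRing B] [CommRing P] [Algebra B P]

/-- A power of `I` lies in `J + Ann J`. -/
theorem exists_pow_le_sup_colon [IsNoetherianRing P] (I : Ideal B) (J : Ideal P) (c : ℕ)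
    (hI : I.FG) (hJ : I.map (algebraMap B P) ^ c * J ≤ J ^ 2) :
    ∃ n : ℕ, (I ^ n).map (algebraMap B P) ≤ J ⊔ (⊥ : Ideal P).colon (J : Set P) := by
  have key : I.map (algebraMap B P) ^ c ≤ (J ⊔ (⊥ : Ideal P).colon (J : Set P)).radical := by
    intro a ha
    let f : Module.End P J := a • LinearMap.id
    have hf : LinearMap.range f ≤ J • ⊤ := by
      rintro _ ⟨x, rfl⟩
      have h1 : a * (x : P) ∈ J • J := by
        rw [smul_eq_mul, ← pow_two]
        exact hJ (Ideal.mul_mem_mul ha x.2)
      have h2 : (J • ⊤ : Submodule P J).map J.subtype = J • J := by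
        rw [Submodule.map_smul'', Submodule.map_top, Submodule.range_subtype]
      rw [← h2] at h1
      obtain ⟨z, hz, hzx⟩ := h1
      have : f x = z := Subtype.ext hzx.symm
      rwa [this]
    obtain ⟨p, hp, -, hpc, hp0⟩ :=
      LinearMap.exists_monic_and_natDegree_eq_and_coeff_mem_pow_and_aeval_eq_zero P f J hf
    have heval : p.eval a ∈ (⊥ : Ideal P).colon (J : Set P) := by
      rw [Submodule.mem_colon]
      intro x hx
      have h3 : f = algebraMap P (Module.End P J) a := by
        ext y; simp [f]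
      rw [h3, Polynomial.aeval_algebraMap_apply, Polynomial.coe_aeval_eq_eval] at hp0
      have h4 := congrArg Subtype.val (LinearMap.congr_fun hp0 ⟨x, hx⟩)
      simpa using h4
    have hmem : a ^ p.natDegree ∈ J ⊔ (⊥ : Ideal P).colon (J : Set P) := by
      have e : a ^ p.natDegree =
          p.eval a - ∑ k ∈ Finset.range p.natDegree, p.coeff k * a ^ k := by
        rw [Polynomial.eval_eq_sum_range, Finset.sum_range_succ,
          show p.coeff p.natDegree = 1 from hp, one_mul, add_sub_cancel_left]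
      rw [e]
      refine Ideal.sub_mem _ (Ideal.mem_sup_right heval) (Ideal.mem_sup_left ?_)
      refine _root_.sum_mem fun k hk => Ideal.mul_mem_right _ _ ?_
      refine (Ideal.pow_le_self ?_) (hpc k)
      have := Finset.mem_range.1 hk
      omega
    exact ⟨_, hmem⟩
  obtain ⟨k, hk⟩ := Ideal.exists_pow_le_of_le_radical_of_fg key
    ((Ideal.FG.map hI _).pow)
  exact ⟨c * k, by rw [Ideal.map_pow, pow_mul]; exact hk⟩

section main

variable (I : Ideal B) [IsNoetherianRing B] [IsNoetherianRing P] [Module.Flat B P]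
  (hlift : ∀ (m : ℕ) (p : P), ∃ b : B, p - algebraMap B P b ∈ (I ^ m).map (algebraMap B P))
  (hker : ∀ (m : ℕ) (b : B), algebraMap B P b ∈ (I ^ m).map (algebraMap B P) → b ∈ I ^ m)

/-- the subalgebra of `R'` of sections algebraic away from `V(I)` -/
def algPart (R' : Type u) [CommRing R'] [Algebra B R'] : Subalgebra B R' where
  carrier := {r | ∃ m : ℕ, ∀ i ∈ I ^ m, algebraMap B R' i * r ∈ (algebraMap B R').range}
  one_mem' := ⟨0, fun i _ => ⟨i, by rw [mul_one]⟩⟩
  zero_mem' := ⟨0, fun i _ => ⟨0, by rw [mul_zero, map_zero]⟩⟩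
  algebraMap_mem' := fun b => ⟨0, fun i _ => ⟨i * b, by rw [map_mul]⟩⟩
  add_mem' := fun {a b} ⟨m, ha⟩ ⟨m', hb⟩ => ⟨m + m', fun i hi => by
    rw [mul_add]
    exact add_mem (ha i (Ideal.pow_le_pow_right (Nat.le_add_right m m') hi))
      (hb i (Ideal.pow_le_pow_right (Nat.le_add_left m' m) hi))⟩
  mul_mem' := fun {a b} ⟨m, ha⟩ ⟨m', hb⟩ => ⟨m + m', fun i hi => by
    rw [pow_add] at hi
    induction hi using Submodule.mul_induction_on' with
    | mem_mul_mem x hx y hy =>
      rw [map_mul, show algebraMap B R' x * algebraMap B R' y * (a * b) =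
        (algebraMap B R' x * a) * (algebraMap B R' y * b) by ring]
      exact mul_mem (ha x hx) (hb y hy)
    | add x _ y _ hx hy => rw [map_add, add_mul]; exact add_mem hx hy⟩

set_option maxHeartbeats 2000000 in
include hlift hker in
theorem core {C : Type u} [CommRing C] (π : P →+* C) (hπ : Function.Surjective π) (c : ℕ)
    (hjac : I.map (algebraMap B P) ≤ (⊥ : Ideal P).jacobson)
    (hprec : ∀ f : ℕ → P, (∀ m, f (m + 1) - f m ∈ (I ^ m).map (algebraMap B P)) →
      ∃ L : P, ∀ m, L - f m ∈ (I ^ m).map (algebraMap B P))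
    (hJ : I.map (algebraMap B P) ^ c * RingHom.ker π ≤ RingHom.ker π ^ 2) :
    ∃ (D : Type u) (_ : CommRing D) (_ : Algebra B D), Algebra.FiniteType B D ∧
      ∀ ID : Ideal D, ID = I.map (algebraMap B D) →
        ∃ e : C ≃+* AdicCompletion ID D,
          ∀ b : B, e (π (algebraMap B P b)) = algebraMap D _ (algebraMap B D b) := by
  classical
  set J := RingHom.ker π with hJdef
  set K := (⊥ : Ideal P).colon (J : Set P) with hKdef
  obtain ⟨n, hn⟩ := exists_pow_le_sup_colon I J c (IsNoetherian.noetherian I) hJ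
  have hKJ : ∀ k ∈ K, ∀ j ∈ J, k * j = 0 := fun k hk j hj => by
    have := Submodule.mem_colon.1 hk j hj
    simpa using this
  have hN : ∀ t, t ∈ J → t ∈ K → t ∈ (algebraMap B P).range := by
    intro t htJ htK
    refine mem_range_of_mul_eq_zero (I ^ n) (fun m p => by
      obtain ⟨b, hb⟩ := hlift (n * m) p; exact ⟨b, by rwa [← pow_mul]⟩) (fun i hi => ?_)
    obtain ⟨j, hj, k, hk, hjk⟩ := Submodule.mem_sup.1 (hn (Ideal.mem_map_of_mem _ hi))
    rw [← hjk, add_mul, mul_comm j t, hKJ t htK j hj, hKJ k hk t htJ, add_zero]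
  let R' := (P ⧸ J) × (P ⧸ K)
  let φ : P →ₐ[B] R' := (Ideal.Quotient.mkₐ B J).prod (Ideal.Quotient.mkₐ B K)
  have hφ : ∀ p, φ p = (Ideal.Quotient.mk J p, Ideal.Quotient.mk K p) := fun _ => rfl
  have hφ0 : ∀ p, φ p = 0 ↔ p ∈ J ∧ p ∈ K := fun p => by
    rw [hφ, Prod.ext_iff]
    simp [Ideal.Quotient.eq_zero_iff_mem]
  have hlow : ∀ p, φ p ∈ algPart I R' → p ∈ (algebraMap B P).range := by
    rintro p ⟨m, hm⟩
    refine mem_range_of_mul_mem_range (I ^ m) (fun k q => by
      obtain ⟨b, hb⟩ := hlift (m * k) q; exact ⟨b, by rwa [← pow_mul]⟩) (fun b hb => by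
      have := hker m b hb; exact this) (fun i hi => ?_)
    obtain ⟨b, hb⟩ := hm i hi
    have h0 : φ (algebraMap B P i * p - algebraMap B P b) = 0 := by
      rw [map_sub, map_mul, φ.commutes, φ.commutes, hb, sub_self]
    obtain ⟨w, hw⟩ := hN _ ((hφ0 _).1 h0).1 ((hφ0 _).1 h0).2
    exact ⟨w + b, by rw [map_add, hw, sub_add_cancel]⟩
  have hsplit : ∀ (r : R') (i : P), i ∈ J ⊔ K → ∃ p, φ p = φ i * r := by
    intro r i hi
    obtain ⟨j, hj, k, hk, rfl⟩ := Submodule.mem_sup.1 hi
    obtain ⟨u, hu⟩ := Ideal.Quotient.mk_surjective r.1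
    obtain ⟨w, hw⟩ := Ideal.Quotient.mk_surjective r.2
    refine ⟨k * u + j * w, ?_⟩
    rw [hφ, hφ, Prod.ext_iff]
    simp [R', map_add, map_mul, Ideal.Quotient.eq_zero_iff_mem.2 hj, Ideal.Quotient.eq_zero_iff_mem.2 hk,
      hu, hw]
  have hdens0 : ∀ r : R', ∃ q, r - φ q ∈ algPart I R' := by
    intro r
    obtain ⟨s, g, hg⟩ := Submodule.fg_iff_exists_fin_generating_family.1
      (IsNoetherian.noetherian (I ^ n))
    have hgI : ∀ k, g k ∈ I ^ n := fun k => hg ▸ Submodule.subset_span ⟨k, rfl⟩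
    choose p hp using fun k => hsplit r (algebraMap B P (g k)) (hn (Ideal.mem_map_of_mem _ (hgI k)))
    have hw : ∀ k l, ∃ w : B, algebraMap B P w =
        algebraMap B P (g l) * p k - algebraMap B P (g k) * p l ∧ φ (algebraMap B P w) = 0 := by
      intro k l
      have h0 : φ (algebraMap B P (g l) * p k - algebraMap B P (g k) * p l) = 0 := by
        rw [map_sub, map_mul, map_mul, hp, hp]; ring
      obtain ⟨w, hw⟩ := hN _ ((hφ0 _).1 h0).1 ((hφ0 _).1 h0).2
      exact ⟨w, hw, by rw [hw, h0]⟩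
    choose w hw hw0 using hw
    obtain ⟨m, x, y, hsol, hcomb⟩ := exists_solutions (B := B) (P := P)
      (fun (kl : Fin s × Fin s) (o : Option (Fin s)) =>
        o.elim (-w kl.1 kl.2) fun j => (if j = kl.1 then g kl.2 else 0) - (if j = kl.2 then g kl.1 else 0))
      (fun o => o.elim 1 p) (fun kl => by
        rw [Fintype.sum_option]
        simp only [Option.elim, map_neg, map_sub, apply_ite (algebraMap B P), map_zero, sub_mul,
          ite_mul, zero_mul, Finset.sum_sub_distrib, Finset.sum_ite_eq', Finset.mem_univ, if_true,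
          mul_one, hw]
        ring)
    have hrel : ∀ i k l, g l * x i (some k) = g k * x i (some l) + w k l * x i none := by
      intro i k l
      have h1 := hsol i (k, l)
      rw [Fintype.sum_option] at h1
      simp only [Option.elim, sub_mul, ite_mul, zero_mul, Finset.sum_sub_distrib,
        Finset.sum_ite_eq', Finset.mem_univ, if_true] at h1
      linear_combination h1
    choose b hb using fun i => hlift n (y i)
    have hd : ∀ i, ∃ d : Fin s → P, y i - algebraMap B P (b i) = ∑ j, d j * algebraMap B P (g j) := by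
      intro i
      have h1 := hb i
      rw [show I ^ n = Ideal.span (Set.range g) from hg.symm, Ideal.map_span, ← Set.range_comp] at h1
      obtain ⟨d, hd⟩ := (Submodule.mem_span_range_iff_exists_fun P).1 h1
      exact ⟨d, by simpa using hd.symm⟩
    choose d hd using hd
    refine ⟨∑ i, ∑ j, d i j * algebraMap B P (x i (some j)), n, ?_⟩
    intro a ha
    rw [← hg] at ha
    induction ha using Submodule.span_induction with
    | zero => rw [map_zero, zero_mul]; exact zero_mem _
    | add a a' _ _ h h' => rw [map_add, add_mul]; exact add_mem h h'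
    | smul t a _ h => rw [smul_eq_mul, map_mul, mul_assoc]; exact mul_mem ⟨t, rfl⟩ h
    | mem z hz =>
      obtain ⟨l, rfl⟩ := hz
      refine ⟨∑ i, b i * x i (some l), ?_⟩
      rw [← φ.commutes, ← φ.commutes (g l), mul_sub, ← hp, ← map_mul, eq_sub_iff_add_eq, ← map_add]
      have e1 : p l = ∑ i, y i * algebraMap B P (x i (some l)) := hcomb (some l)
      have e2 : algebraMap B P (g l) * ∑ i, ∑ j, d i j * algebraMap B P (x i (some j)) =
          (∑ i, (y i - algebraMap B P (b i)) * algebraMap B P (x i (some l))) +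
          ∑ i, ∑ j, d i j * (algebraMap B P (w j l) * algebraMap B P (x i none)) := by
        rw [Finset.mul_sum, ← Finset.sum_add_distrib]
        refine Finset.sum_congr rfl fun i _ => ?_
        rw [hd, Finset.mul_sum, Finset.sum_mul, ← Finset.sum_add_distrib]
        refine Finset.sum_congr rfl fun j _ => ?_
        rw [mul_left_comm, ← map_mul, hrel, map_add, map_mul, map_mul]
        ring
      have e3 : algebraMap B P (∑ i, b i * x i (some l)) =
          ∑ i, algebraMap B P (b i) * algebraMap B P (x i (some l)) := by simp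
      rw [e2, e3, e1]
      simp only [sub_mul, Finset.sum_sub_distrib, map_add, map_sub, map_sum, map_mul, hw0,
        zero_mul, mul_zero, Finset.sum_const_zero, add_zero]
      ring
  have hdens : ∀ (r : R') (M : ℕ), ∃ q ∈ (I ^ M).map (algebraMap B P), r - φ q ∈ algPart I R' := by
    intro r M
    obtain ⟨q, hq⟩ := hdens0 r
    obtain ⟨b, hb⟩ := hlift M q
    refine ⟨_, hb, ?_⟩
    rw [map_sub, φ.commutes, sub_sub_eq_add_sub, add_sub_right_comm]
    exact add_mem hq ((algPart I R').algebraMap_mem b)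
  obtain ⟨q₁, hq₁, hr₁⟩ := hdens ((1, 0) : R') 1
  set R := algPart I R'
  let r1 : R := ⟨_, hr₁⟩
  haveI : Module.Finite B R := by
    refine ⟨⟨{1, r1}, ?_⟩⟩
    rw [eq_top_iff]
    rintro ⟨r, hr⟩ -
    obtain ⟨u, hu⟩ := Ideal.Quotient.mk_surjective r.1
    obtain ⟨w, hw⟩ := Ideal.Quotient.mk_surjective r.2
    obtain ⟨b, hb⟩ := hlift n (u - w)
    obtain ⟨p, hp⟩ := hsplit ((1, 0) : R') _ (hn hb)
    have e : r = φ (w + p + algebraMap B P b * q₁) + b • ((r1 : R') : R') := by
      rw [Algebra.smul_def, map_add, map_add, map_mul, φ.commutes, mul_sub, hp, map_sub, φ.commutes]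
      have e' : r = φ w + φ (u - w) * ((1, 0) : R') := by
        rw [hφ, hφ, Prod.ext_iff]
        simp [R', hu, hw]
      rw [e', map_sub]
      ring
    have hmem : φ (w + p + algebraMap B P b * q₁) ∈ R := by
      have : φ (w + p + algebraMap B P b * q₁) = r - b • ((r1 : R') : R') := eq_sub_of_add_eq e.symm
      rw [this]
      exact sub_mem hr (R.smul_mem r1.2 b)
    obtain ⟨t, ht⟩ := hlow _ hmem
    rw [Finset.coe_insert, Finset.coe_singleton]
    refine Submodule.mem_span_pair.2 ⟨t, b, Subtype.ext ?_⟩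
    change t • (1 : R') + b • (r1 : R') = r
    rw [e, ← ht, φ.commutes, Algebra.algebraMap_eq_smul_one]
  let D := Localization.Away r1
  haveI : Algebra.FiniteType B R := inferInstance
  have hDft : Algebra.FiniteType B D :=
    Algebra.FiniteType.trans (S := R) inferInstance
      (IsLocalization.finiteType_of_monoid_fg (Submonoid.powers r1) D)
  -- the map to `C`
  let πJ : P ⧸ J →+* C := Ideal.Quotient.lift J π fun a ha => ha
  have hπJ : Function.Injective πJ := RingHom.lift_injective_of_ker_le_ideal _ _ le_rfl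
  let f : R →+* C := πJ.comp ((RingHom.fst (P ⧸ J) (P ⧸ K)).comp R.val.toRingHom)
  have hfb : ∀ b : B, f (algebraMap B R b) = π (algebraMap B P b) := fun b => rfl
  have hfr1 : f r1 = 1 - π q₁ := by
    change πJ (((1, 0) - φ q₁ : R').1) = _
    rw [hφ, Prod.fst_sub, map_sub, map_one]
    rfl
  set IC := I.map (π.comp (algebraMap B P)) with hIC
  have hICm : ∀ m, IC ^ m = ((I ^ m).map (algebraMap B P)).map π := fun m => by
    rw [hIC, Ideal.map_map, Ideal.map_pow]
  have hICjac : IC ≤ (⊥ : Ideal C).jacobson := by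
    rw [hIC, ← Ideal.map_map]
    intro x hx
    obtain ⟨q, hq, rfl⟩ := (Ideal.mem_map_iff_of_surjective π hπ).1 hx
    rw [Ideal.mem_jacobson_bot]
    intro z
    obtain ⟨z, rfl⟩ := hπ z
    rw [← map_mul, ← map_one π, ← map_add]
    exact (Ideal.mem_jacobson_bot.1 (hjac hq) z).map π
  have hq₁C : π q₁ ∈ IC := by
    rw [← pow_one IC, hICm]
    exact Ideal.mem_map_of_mem π hq₁
  have hu : IsUnit (f r1) := by
    rw [hfr1]
    have h1 := Ideal.mem_jacobson_bot.1 (hICjac hq₁C) (-1)
    rwa [show π q₁ * (-1) + 1 = 1 - π q₁ by ring] at h1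
  let θ : D →+* C := IsLocalization.Away.lift r1 hu
  have hθ : ∀ r, θ (algebraMap R D r) = f r := fun r => IsLocalization.Away.lift_eq r1 hu r
  refine ⟨D, inferInstance, inferInstance, hDft, fun ID hID => ?_⟩
  have hIDm : ∀ m, ID ^ m = (I ^ m).map (algebraMap B D) := fun m => by
    rw [hID, Ideal.map_pow]
  have hθB : θ.comp (algebraMap B D) = π.comp (algebraMap B P) := by
    refine RingHom.ext fun b => ?_
    rw [RingHom.comp_apply, IsScalarTower.algebraMap_apply B R D, hθ, hfb]
    rfl
  have hθI : ∀ m, ID ^ m ≤ (IC ^ m).comap θ := fun m => by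
    rw [← Ideal.map_le_iff_le_comap, hIDm, Ideal.map_map, hθB, hIC, Ideal.map_pow]
  have hsurj : ∀ (m : ℕ) (z : C), ∃ x : D, θ x - z ∈ IC ^ m := by
    intro m z
    obtain ⟨p, rfl⟩ := hπ z
    obtain ⟨q, hq, hr⟩ := hdens ((Ideal.Quotient.mk J p, 0) : R') m
    refine ⟨algebraMap R D ⟨_, hr⟩, ?_⟩
    rw [hθ]
    change πJ (((Ideal.Quotient.mk J p, 0) - φ q : R').1) - π p ∈ _
    rw [hφ, Prod.fst_sub, map_sub]
    change π p - π q - π p ∈ _
    rw [sub_sub_cancel_left, neg_mem_iff, hICm]
    exact Ideal.mem_map_of_mem π hq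
  have hinj : ∀ (m : ℕ) (x : D), θ x ∈ IC ^ m → x ∈ ID ^ m := by
    intro m x hx
    obtain ⟨r, ⟨_, j, rfl⟩, rfl⟩ := IsLocalization.exists_mk'_eq (Submonoid.powers r1) x
    have hr : f r ∈ IC ^ m := by
      rw [← hθ, ← IsLocalization.mk'_spec D r (⟨_, j, rfl⟩ : Submonoid.powers r1), map_mul]
      exact Ideal.mul_mem_right _ _ hx
    set s : R := r1 ^ m * r with hs
    have hsm : ∃ y : R', (y : R') ∈ (I ^ m).map (algebraMap B R') ∧ (s : R') = y := by
      refine ⟨s, ?_, rfl⟩
      have hfst : ∃ a ∈ (I ^ m).map (algebraMap B P), Ideal.Quotient.mk J a = (s : R').1 := by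
        have h1 : f s ∈ IC ^ m := by rw [hs, map_mul]; exact Ideal.mul_mem_left _ _ hr
        rw [hICm, Ideal.mem_map_iff_of_surjective π hπ] at h1
        obtain ⟨a, ha, hae⟩ := h1
        exact ⟨a, ha, hπJ (hae : πJ (Ideal.Quotient.mk J a) = πJ (s : R').1)⟩
      have hsnd : ∃ a ∈ (I ^ m).map (algebraMap B P), Ideal.Quotient.mk K a = (s : R').2 := by
        obtain ⟨u, hu'⟩ := Ideal.Quotient.mk_surjective (r : R').2
        refine ⟨(-q₁) ^ m * u, Ideal.mul_mem_right _ _ ?_, ?_⟩
        · rw [Ideal.map_pow]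
          exact Ideal.pow_mem_pow (neg_mem (by simpa using hq₁)) m
        · rw [hs, map_mul, map_pow, hu']
          change _ = (((1, 0) - φ q₁ : R') ^ m * (r : R')).2
          rw [Prod.snd_mul, Prod.pow_snd, Prod.snd_sub, hφ, map_neg, zero_sub]
      obtain ⟨a, ha, hae⟩ := hfst
      obtain ⟨a', ha', ha'e⟩ := hsnd
      have e : (s : R') = φ a * ((1, 0) : R') + φ a' * ((0, 1) : R') := by
        rw [hφ, hφ, Prod.ext_iff]
        simp [R', hae, ha'e]
      have hmap : ∀ a ∈ (I ^ m).map (algebraMap B P), φ a ∈ (I ^ m).map (algebraMap B R') := by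
        intro a ha
        have := Ideal.mem_map_of_mem φ.toRingHom ha
        rwa [Ideal.map_map, show φ.toRingHom.comp (algebraMap B P) = algebraMap B R' from
          φ.comp_algebraMap] at this
      rw [e]
      exact add_mem (Ideal.mul_mem_right _ _ (hmap a ha)) (Ideal.mul_mem_right _ _ (hmap a' ha'))
    obtain ⟨y, hy, rfl⟩ := hsm
    have hdec : ∃ (r' : R) (q : P), r' ∈ (I ^ m).map (algebraMap B R) ∧
        q ∈ (I ^ m).map (algebraMap B P) ∧ (s : R') = (r' : R') + φ q := by
      clear_value s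
      have hy' : (s : R') ∈ Submodule.span R' ((algebraMap B R') '' (I ^ m : Ideal B)) := hy
      have gen : ∀ y ∈ Submodule.span R' ((algebraMap B R') '' (I ^ m : Ideal B)),
          ∃ (r' : R) (q : P), r' ∈ (I ^ m).map (algebraMap B R) ∧
            q ∈ (I ^ m).map (algebraMap B P) ∧ y = (r' : R') + φ q := by
        intro y hy
        rw [← Submodule.mem_toAddSubmonoid] at hy
        rw [Submodule.span_eq_closure] at hy
        induction hy using AddSubmonoid.closure_induction with
        | mem z hz =>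
          obtain ⟨y', -, z', ⟨i, hi, rfl⟩, rfl⟩ := Set.mem_smul.1 hz
          obtain ⟨q, hq⟩ := hdens0 y'
          refine ⟨algebraMap B R i * ⟨_, hq⟩, algebraMap B P i * q,
            Ideal.mul_mem_right _ _ (Ideal.mem_map_of_mem _ hi),
            Ideal.mul_mem_right _ _ (Ideal.mem_map_of_mem _ hi), ?_⟩
          rw [map_mul, φ.commutes, smul_eq_mul]
          push_cast
          ring
        | zero => exact ⟨0, 0, zero_mem _, zero_mem _, by simp⟩
        | add a b _ _ ha hb =>
          obtain ⟨r₁', q₁', h1, h2, rfl⟩ := ha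
          obtain ⟨r₂', q₂', h3, h4, rfl⟩ := hb
          exact ⟨r₁' + r₂', q₁' + q₂', add_mem h1 h3, add_mem h2 h4, by push_cast; rw [map_add]; ring⟩
      exact gen _ hy'
    obtain ⟨r', q, hr', hq, hse⟩ := hdec
    obtain ⟨b, hb⟩ := hlow q (by
      have : φ q = (s : R') - (r' : R') := eq_sub_of_add_eq' hse.symm
      rw [this]
      exact sub_mem s.2 r'.2)
    have hbm : b ∈ I ^ m := hker m b (hb ▸ hq)
    have hsI : s ∈ (I ^ m).map (algebraMap B R) := by
      have : s = r' + algebraMap B R b := Subtype.ext (by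
        rw [hse, ← hb, φ.commutes]; rfl)
      rw [this]
      exact add_mem hr' (Ideal.mem_map_of_mem _ hbm)
    have hfin : algebraMap R D s ∈ ID ^ m := by
      rw [hIDm, IsScalarTower.algebraMap_eq B R D, ← Ideal.map_map]
      exact Ideal.mem_map_of_mem _ hsI
    have hunit : IsUnit (algebraMap R D r1) := IsLocalization.Away.algebraMap_isUnit r1
    rw [hs, map_mul, map_pow, Ideal.unit_mul_mem_iff_mem _ (hunit.pow m)] at hfin
    rw [IsLocalization.mk'_eq_mul_mk'_one]
    exact Ideal.mul_mem_right _ _ hfin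
  let θm : ∀ m, D ⧸ ID ^ m ≃+* C ⧸ IC ^ m := fun m =>
    RingEquiv.ofBijective (Ideal.quotientMap (IC ^ m) θ (hθI m))
      ⟨Ideal.quotientMap_injective' (fun x hx => hinj m x hx), fun z => by
        obtain ⟨z, rfl⟩ := Ideal.Quotient.mk_surjective z
        obtain ⟨x, hx⟩ := hsurj m z
        exact ⟨Ideal.Quotient.mk _ x, by rw [Ideal.quotientMap_mk]; exact (Ideal.Quotient.eq).2 hx⟩⟩
  let ψ : ∀ m, C →+* D ⧸ ID ^ m := fun m => (θm m).symm.toRingHom.comp (Ideal.Quotient.mk _)
  have hψ : ∀ (m : ℕ) (z : C) (x : D), θ x - z ∈ IC ^ m → ψ m z = Ideal.Quotient.mk _ x := by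
    intro m z x hx
    apply (θm m).injective
    change (θm m) ((θm m).symm (Ideal.Quotient.mk _ z)) = _
    rw [RingEquiv.apply_symm_apply]
    exact ((Ideal.Quotient.eq).2 hx).symm.trans (Ideal.quotientMap_mk (H := hθI m)).symm
  have hcompat : ∀ {m k : ℕ} (hle : m ≤ k), (Ideal.Quotient.factorPow ID hle).comp (ψ k) = ψ m := by
    intro m k hle
    refine RingHom.ext fun z => ?_
    obtain ⟨x, hx⟩ := hsurj k z
    rw [RingHom.comp_apply, hψ k z x hx, hψ m z x (Ideal.pow_le_pow_right hle hx)]
    rfl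
  let Ψ : C →+* AdicCompletion ID D := AdicCompletion.liftRingHom ID ψ hcompat
  haveI : IsNoetherianRing C := isNoetherianRing_of_surjective P C π hπ
  have hΨinj : Function.Injective Ψ := by
    rw [injective_iff_map_eq_zero]
    intro z hz
    haveI : IsHausdorff IC C := IsHausdorff.of_le_jacobson IC C hICjac
    refine IsHausdorff.haus ‹_› z fun m => ?_
    rw [SModEq.zero, smul_eq_mul, Ideal.mul_top]
    obtain ⟨x, hx⟩ := hsurj m z
    have h1 := congrArg (AdicCompletion.evalₐ ID m) hz
    rw [AdicCompletion.evalₐ_liftRingHom, map_zero, hψ m z x hx, Ideal.Quotient.eq_zero_iff_mem] at h1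
    have h2 : θ x ∈ IC ^ m := hθI m h1
    have := sub_mem h2 hx
    rwa [sub_sub_cancel] at this
  have hΨsurj : Function.Surjective Ψ := by
    intro y
    choose x hx using fun m => Ideal.Quotient.mk_surjective (AdicCompletion.evalₐ ID m y)
    have hdiff : ∀ m, θ (x (m + 1)) - θ (x m) ∈ IC ^ m := by
      intro m
      rw [← map_sub]
      refine hθI m ((Ideal.Quotient.eq).1 ?_)
      rw [hx m, ← Ideal.Quotient.factor_mk (Ideal.pow_le_pow_right (Nat.le_succ m)), hx (m + 1)]
      exact Groth.Agent.H25.Algz.factor_evalₐ (Nat.le_succ m) y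
    have hlift' : ∀ m, ∃ q ∈ (I ^ m).map (algebraMap B P), π q = θ (x (m + 1)) - θ (x m) := by
      intro m
      have h1 := hdiff m
      rwa [hICm, Ideal.mem_map_iff_of_surjective π hπ] at h1
    choose q hq hqe using hlift'
    obtain ⟨d₀, hd₀⟩ := hπ (θ (x 0))
    let F : ℕ → P := fun m => d₀ + ∑ k ∈ Finset.range m, q k
    have hF : ∀ m, π (F m) = θ (x m) := by
      intro m
      simp only [F, map_add, map_sum, hqe, hd₀]
      rw [Finset.sum_range_sub (fun k => θ (x k))]
      ring
    obtain ⟨L, hL⟩ := hprec F fun m => by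
      simp only [F, Finset.sum_range_succ]
      rw [show d₀ + (∑ k ∈ Finset.range m, q k + q m) - (d₀ + ∑ k ∈ Finset.range m, q k) = q m by ring]
      exact hq m
    refine ⟨π L, AdicCompletion.ext_evalₐ fun m => ?_⟩
    rw [AdicCompletion.evalₐ_liftRingHom, hψ m (π L) (x m) ?_, hx]
    rw [← hF, ← map_sub, ← neg_sub L, map_neg, neg_mem_iff, hICm]
    exact Ideal.mem_map_of_mem π (hL m)
  refine ⟨RingEquiv.ofBijective Ψ ⟨hΨinj, hΨsurj⟩, fun b => ?_⟩
  refine AdicCompletion.ext_evalₐ fun m => ?_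
  change AdicCompletion.evalₐ ID m (Ψ _) = _
  rw [AdicCompletion.evalₐ_liftRingHom, hψ m _ (algebraMap B D b) ?_]
  · exact ((AdicCompletion.evalₐ ID m).commutes _).symm
  · rw [← RingHom.comp_apply, hθB, RingHom.comp_apply, sub_self]
    exact zero_mem _

end main

end Groth.Agent.H25.Algz
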