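import Mathlib.RingTheory.Flat.EquationalCriterion
import Mathlib.RingTheory.Ideal.Maps
import Mathlib.RingTheory.Finiteness.Basic

/-!
# Linear systems in a flat algebra
-/

universe u

namespace Groth.Agent.H25.Algz

/-- Solutions in a flat algebra of a homogeneous system come from solutions in the base. -/
theorem exists_solutions {B : Type u} [CommRing B] {P : Type u} [CommRing P] [Algebra B P]
    [Module.Flat B P] {a b : Type} [Fintype a] [Fintype b] (M : b → a → B) (p : a → P)
    (h : ∀ r, ∑ j, algebraMap B P (M r j) * p j = 0) :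
    ∃ (k : ℕ) (x : Fin k → a → B) (y : Fin k → P),
      (∀ i r, ∑ j, M r j * x i j = 0) ∧ ∀ j, p j = ∑ i, y i * algebraMap B P (x i j) := by
  classical
  let xl : (a → B) →ₗ[B] P := ∑ j, (LinearMap.proj j).smulRight (p j)
  let f : (b → B) →ₗ[B] (a → B) := ∑ r, (LinearMap.proj r).smulRight (M r)
  have hxl : ∀ v, xl v = ∑ j, algebraMap B P (v j) * p j := fun v => by
    simp [xl, Algebra.smul_def]
  have hf : ∀ r, f (Pi.single r 1) = M r := fun r => by
    simp [f, Pi.single_apply, ite_smul, Finset.sum_ite_eq']
  have h0 : xl ∘ₗ f = 0 := by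
    refine LinearMap.pi_ext' fun r => LinearMap.ext_ring ?_
    change xl (f (Pi.single r 1)) = 0
    rw [hf, hxl]
    exact h r
  obtain ⟨k, α, y, hy, hα⟩ := Module.Flat.exists_factorization_of_comp_eq_zero_of_free h0
  refine ⟨k, fun i j => α (Pi.single j 1) i, fun i => y (Finsupp.single i 1), fun i r => ?_,
    fun j => ?_⟩
  · have h1 : α (f (Pi.single r 1)) = 0 := LinearMap.congr_fun hα (Pi.single r 1)
    rw [hf] at h1
    have e : M r = ∑ j, M r j • (Pi.single j (1 : B) : a → B) := pi_eq_sum_univ' (M r)
    rw [e, map_sum] at h1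
    have h2 := DFunLike.congr_fun h1 i
    rw [Finsupp.finsetSum_apply] at h2
    simpa using h2
  · have h1 : xl (Pi.single j 1) = y (α (Pi.single j 1)) := LinearMap.congr_fun hy _
    have h2 : xl (Pi.single j 1) = p j := by
      rw [hxl, Finset.sum_eq_single j]
      · simp
      · intro k _ hk; simp [hk]
      · simp
    rw [← h2, h1]
    conv_lhs => rw [← Finsupp.univ_sum_single (α (Pi.single j 1))]
    rw [map_sum]
    refine Finset.sum_congr rfl fun i _ => ?_
    rw [show Finsupp.single i (α (Pi.single j 1) i) =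
      α (Pi.single j 1) i • Finsupp.single i (1 : B) by simp, map_smul, Algebra.smul_def, mul_comm]

variable {B : Type u} [CommRing B] {P : Type u} [CommRing P] [Algebra B P] [Module.Flat B P]
  (I : Ideal B) [IsNoetherianRing B]
  (hlift : ∀ (m : ℕ) (p : P), ∃ b : B, p - algebraMap B P b ∈ (I ^ m).map (algebraMap B P))

include hlift in
/-- elements killed by `I` come from `B` -/
theorem mem_range_of_mul_eq_zero {t : P} (ht : ∀ i ∈ I, algebraMap B P i * t = 0) :
    t ∈ (algebraMap B P).range := by
  classical
  obtain ⟨n, g, hg⟩ := Submodule.fg_iff_exists_fin_generating_family.1 (IsNoetherian.noetherian I)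
  obtain ⟨m, x, y, hsol, hcomb⟩ := exists_solutions (B := B) (P := P)
    (fun k => fun _ : Fin 1 => g k) (fun _ => t) (fun k => by
      simpa using ht (g k) (hg ▸ Submodule.subset_span ⟨k, rfl⟩))
  have hkill : ∀ i, ∀ c ∈ I, c * x i 0 = 0 := by
    intro i c hc
    rw [← hg] at hc
    induction hc using Submodule.span_induction with
    | mem z hz => obtain ⟨k, rfl⟩ := hz; simpa using hsol i k
    | zero => rw [zero_mul]
    | add a b _ _ ha hb => rw [add_mul, ha, hb, add_zero]
    | smul r a _ ha => rw [smul_eq_mul, mul_assoc, ha, mul_zero]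
  choose b hb using fun i => hlift 1 (y i)
  refine ⟨∑ i, b i * x i 0, ?_⟩
  rw [hcomb 0, map_sum]
  refine Finset.sum_congr rfl fun i _ => ?_
  have h0 : ∀ z ∈ I.map (algebraMap B P), z * algebraMap B P (x i 0) = 0 := by
    intro z hz
    induction hz using Submodule.span_induction with
    | mem z hz =>
      obtain ⟨c, hc, rfl⟩ := hz
      rw [← map_mul, hkill i c hc, map_zero]
    | zero => rw [zero_mul]
    | add a b _ _ ha hb => rw [add_mul, ha, hb, add_zero]
    | smul r a _ ha => rw [smul_eq_mul, mul_assoc, ha, mul_zero]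
  have h1 := h0 _ (by simpa using hb i)
  rw [sub_mul, sub_eq_zero] at h1
  rw [map_mul, h1]

include hlift in
/-- `P / B` has no elements killed by `I`. -/
theorem mem_range_of_mul_mem_range (hker : ∀ b : B, algebraMap B P b ∈ I.map (algebraMap B P) → b ∈ I)
    {p : P} (hp : ∀ i ∈ I, algebraMap B P i * p ∈ (algebraMap B P).range) :
    p ∈ (algebraMap B P).range := by
  classical
  obtain ⟨n, g, hg⟩ := Submodule.fg_iff_exists_fin_generating_family.1 (IsNoetherian.noetherian I)
  have hgI : ∀ k, g k ∈ I := fun k => hg ▸ Submodule.subset_span ⟨k, rfl⟩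
  choose v hv using fun k => hp (g k) (hgI k)
  obtain ⟨m, x, y, hsol, hcomb⟩ := exists_solutions (B := B) (P := P)
    (fun k => fun j : Fin 2 => if j = 0 then g k else -v k) ![p, 1] (fun k => by
      simp [Fin.sum_univ_two, hv k])
  choose b hb using fun i => hlift 1 (y i)
  have hrel : ∀ i k, g k * x i 0 = v k * x i 1 := fun i k => by
    have := hsol i k
    simp [Fin.sum_univ_two] at this
    exact sub_eq_zero.1 (by rw [sub_eq_add_neg]; exact this)
  set one' := ∑ i, b i * x i 1 with hone'
  have hI1 : 1 - one' ∈ I := by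
    refine hker _ ?_
    have e : algebraMap B P (1 - one') =
        ∑ i, (y i - algebraMap B P (b i)) * algebraMap B P (x i 1) := by
      rw [map_sub, map_one, hone', map_sum]
      simp only [sub_mul, Finset.sum_sub_distrib, map_mul]
      rw [show (∑ i, y i * algebraMap B P (x i 1)) = 1 from (by simpa using (hcomb 1).symm)]
    rw [e]
    exact _root_.sum_mem fun i _ => Ideal.mul_mem_right _ _ (by simpa using hb i)
  rw [← hg] at hI1
  rw [Submodule.mem_span_range_iff_exists_fun] at hI1
  obtain ⟨c, hc⟩ := hI1
  set b₀ := (∑ i, b i * x i 0) + ∑ l, c l * v l with hb₀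
  have hkill : ∀ k, algebraMap B P (g k) * (p - algebraMap B P b₀) = 0 := by
    intro k
    have e1 : g k * ∑ i, b i * x i 0 = v k * one' := by
      rw [hone', Finset.mul_sum, Finset.mul_sum]
      exact Finset.sum_congr rfl fun i _ => by rw [mul_left_comm, hrel, mul_left_comm]
    have e2 : algebraMap B P (g k * ∑ l, c l * v l) = algebraMap B P (v k * (1 - one')) := by
      rw [← hc, Finset.mul_sum, Finset.mul_sum, map_sum, map_sum]
      refine Finset.sum_congr rfl fun l _ => ?_
      simp only [smul_eq_mul, map_mul, hv]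
      ring
    rw [mul_sub, ← hv k, hb₀, map_add, mul_add, ← map_mul, ← map_mul, e2, e1, ← map_add,
      ← mul_add, add_sub_cancel, mul_one, sub_self]
  obtain ⟨t, ht⟩ := mem_range_of_mul_eq_zero I hlift (t := p - algebraMap B P b₀) (fun i hi => by
    rw [← hg] at hi
    induction hi using Submodule.span_induction with
    | mem z hz => obtain ⟨k, rfl⟩ := hz; exact hkill k
    | zero => rw [map_zero, zero_mul]
    | add a b _ _ ha hb => rw [map_add, add_mul, ha, hb, add_zero]
    | smul r a _ ha => rw [smul_eq_mul, map_mul, mul_assoc, ha, mul_zero])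
  exact ⟨t + b₀, by rw [map_add, ht, sub_add_cancel]⟩

end Groth.Agent.H25.Algz
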